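import Groth.Agent.L19.PicRat.Product
import Groth.Agent.L19.PicRat.Axes
import Groth.Agent.L25.ConnIrred
import Groth.Agent.L25.SmoothUnit
import Groth.Agent.L08.Borel.Geom
import Groth.Agent.S16121

/-!
# Classes and units on geometric fibres of a product of two smooth connected groups
-/

set_option autoImplicit false
set_option linter.style.haveILetI false
set_option linter.unusedSectionVars false
set_option backward.isDefEq.respectTransparency.types false
set_option maxSynthPendingDepth 3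

universe u

open CategoryTheory CategoryTheory.Limits MonoidalCategory CartesianMonoidalCategory MonObj AlgebraicGeometry

noncomputable section

namespace Groth.L19.PicAxes

section AlgClosed

variable {K : Type u} [Field K] [IsAlgClosed K] (P Q : Over (Spec (CommRingCat.of K))) [GrpObj P] [GrpObj Q]
  [Smooth P.hom] [Smooth Q.hom]

/-- Over an algebraically closed field a class trivial on the axes of a product with a linear group is trivial. -/
theorem isTrivialCl_of_axes [IsAffine P.left] [QuasiCompact Q.hom] [ConnectedSpace P.left] [ConnectedSpace Q.left]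
    (c : PicF.Cl (P ⊗ Q).left) (hc : PicF.IsInvertibleCl c)
    (hP : PicF.IsTrivialCl (PicF.pullCl (Groth.L19.PicRat.secFst (X := P) η[Q]).left c))
    (hQ : PicF.IsTrivialCl (PicF.pullCl (Groth.L19.PicRat.secSnd (Y := Q) η[P]).left c)) :
    PicF.IsTrivialCl c := by
  haveI := Groth.L25.ConnIrred.irreducibleSpace P
  haveI := Groth.L25.ConnIrred.irreducibleSpace Q
  haveI : IsReduced P.left := Groth.Agent.AV.isReduced_of_smooth_field P.hom
  haveI : IsReduced Q.left := Groth.Agent.AV.isReduced_of_smooth_field Q.hom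
  haveI : IsIntegral P.left := isIntegral_of_irreducibleSpace_of_isReduced P.left
  haveI : IsIntegral Q.left := isIntegral_of_irreducibleSpace_of_isReduced Q.left
  letI := Groth.Agent.AV.InterPic.picLaw P.left
  letI := Groth.Agent.AV.InterPic.picLaw Q.left
  letI := Groth.Agent.AV.InterPic.picLaw (P ⊗ Q).left
  let hp := Groth.Agent.AV.InterPic.pullMul (fst P Q).left
  let hq := Groth.Agent.AV.InterPic.pullMul (snd P Q).left
  obtain ⟨a, b, h⟩ := Groth.L19.PicRat.exists_decomp (X := P) (Y := Q) Groth.L19.PicRat.isNormalScheme_of_smooth_field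
    Groth.L19.PicRat.isNormalScheme_of_smooth_field (Groth.Agent.S16121.result K P) hp hq ⟨c, hc⟩
  have ha : a = 1 := by
    let hs := Groth.Agent.AV.InterPic.pullMul (Groth.L19.PicRat.secFst (X := P) η[Q]).left
    have h1 := congrArg (fun m => PicGrp.pullHom (Groth.L19.PicRat.secFst (X := P) η[Q]).left hs m) h
    simp only [map_mul] at h1
    have h2 : PicGrp.pullHom (Groth.L19.PicRat.secFst (X := P) η[Q]).left hs ⟨c, hc⟩ = 1 :=
      Subtype.ext (hP.trans (by rw [PicGrp.one_val]))
    have h3 : PicGrp.pullHom (Groth.L19.PicRat.secFst (X := P) η[Q]).left hs (PicGrp.pullHom (snd P Q).left hq b) = 1 :=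
      Subtype.ext (by
        simp only [PicGrp.pullHom_apply_val]
        rw [Groth.L19.PicRat.pullCl_secFst_snd, PicGrp.one_val]
        rfl)
    rw [h2, h3, _root_.mul_one] at h1
    exact (Subtype.ext (Groth.L19.PicRat.pullCl_secFst_fst η[Q] a).symm).trans h1
  have hb : b = 1 := by
    let hs := Groth.Agent.AV.InterPic.pullMul (Groth.L19.PicRat.secSnd (Y := Q) η[P]).left
    have h1 := congrArg (fun m => PicGrp.pullHom (Groth.L19.PicRat.secSnd (Y := Q) η[P]).left hs m) h
    simp only [map_mul] at h1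
    have h2 : PicGrp.pullHom (Groth.L19.PicRat.secSnd (Y := Q) η[P]).left hs ⟨c, hc⟩ = 1 :=
      Subtype.ext (hQ.trans (by rw [PicGrp.one_val]))
    have h3 : PicGrp.pullHom (Groth.L19.PicRat.secSnd (Y := Q) η[P]).left hs (PicGrp.pullHom (fst P Q).left hp a) = 1 :=
      Subtype.ext (by
        simp only [PicGrp.pullHom_apply_val]
        rw [Groth.L19.PicRat.pullCl_secSnd_fst, PicGrp.one_val]
        rfl)
    rw [h2, h3, _root_.one_mul] at h1
    exact (Subtype.ext (Groth.L19.PicRat.pullCl_secSnd_snd η[P] b).symm).trans h1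
  rw [ha, hb, map_one, map_one, _root_.one_mul] at h
  exact (congrArg Subtype.val h.symm).trans (by rw [PicGrp.one_val])

end AlgClosed

variable {k K : Type u} [Field k] [Field K] [IsAlgClosed K] (σ : Spec (CommRingCat.of K) ⟶ Spec (CommRingCat.of k))
  (P Q : Over (Spec (CommRingCat.of k)))

/-- The base field of a geometric fibre, as a scheme over the base field. -/
abbrev E : Over (Spec (CommRingCat.of k)) := Over.mk σ

/-- The product of the fibres is the fibre of the product: one direction. -/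
def toFibre : (Red.bc σ P ⊗ Red.bc σ Q).left ⟶ ((P ⊗ Q) ⊗ E σ).left :=
  pullback.lift
    (pullback.lift (pullback.fst (pullback.snd P.hom σ) (pullback.snd Q.hom σ) ≫ pullback.fst P.hom σ)
      (pullback.snd (pullback.snd P.hom σ) (pullback.snd Q.hom σ) ≫ pullback.fst Q.hom σ) (by
        simp only [Category.assoc, pullback.condition]
        exact (reassoc_of% (pullback.condition (f := pullback.snd P.hom σ) (g := pullback.snd Q.hom σ))) σ))
    (pullback.fst (pullback.snd P.hom σ) (pullback.snd Q.hom σ) ≫ pullback.snd P.hom σ) (by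
      show pullback.lift _ _ _ ≫ pullback.fst P.hom Q.hom ≫ P.hom = _
      rw [pullback.lift_fst_assoc, Category.assoc, Category.assoc, pullback.condition]
      rfl)

/-- The product of the fibres is the fibre of the product: the other direction. -/
def ofFibre : ((P ⊗ Q) ⊗ E σ).left ⟶ (Red.bc σ P ⊗ Red.bc σ Q).left :=
  pullback.lift (f := pullback.snd P.hom σ) (g := pullback.snd Q.hom σ) (fst P Q ▷ E σ).left (snd P Q ▷ E σ).left (by
    have h1 : (fst P Q ▷ E σ) ≫ snd P (E σ) = snd (P ⊗ Q) (E σ) := whiskerRight_snd _ _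
    have h2 : (snd P Q ▷ E σ) ≫ snd Q (E σ) = snd (P ⊗ Q) (E σ) := whiskerRight_snd _ _
    exact (congrArg CommaMorphism.left h1).trans (congrArg CommaMorphism.left h2).symm)

theorem toFibre_one : toFibre σ P Q ≫ (fst (P ⊗ Q) (E σ) ≫ fst P Q).left =
    (fst (Red.bc σ P) (Red.bc σ Q)).left ≫ (fst P (E σ)).left := by
  show pullback.lift _ _ _ ≫ pullback.fst _ _ ≫ pullback.fst P.hom Q.hom = _
  rw [pullback.lift_fst_assoc, pullback.lift_fst]
  rfl

theorem toFibre_two : toFibre σ P Q ≫ (fst (P ⊗ Q) (E σ) ≫ snd P Q).left =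
    (snd (Red.bc σ P) (Red.bc σ Q)).left ≫ (fst Q (E σ)).left := by
  show pullback.lift _ _ _ ≫ pullback.fst _ _ ≫ pullback.snd P.hom Q.hom = _
  rw [pullback.lift_fst_assoc, pullback.lift_snd]
  rfl

theorem toFibre_three : toFibre σ P Q ≫ (snd (P ⊗ Q) (E σ)).left = (fst (Red.bc σ P) (Red.bc σ Q)).left ≫ (snd P (E σ)).left :=
  pullback.lift_snd _ _ _

theorem ofFibre_fst : ofFibre σ P Q ≫ (fst (Red.bc σ P) (Red.bc σ Q)).left = (fst P Q ▷ E σ).left :=
  pullback.lift_fst _ _ _

theorem ofFibre_snd : ofFibre σ P Q ≫ (snd (Red.bc σ P) (Red.bc σ Q)).left = (snd P Q ▷ E σ).left :=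
  pullback.lift_snd _ _ _

theorem fibre_hom_ext {T : Scheme.{u}} {a b : T ⟶ ((P ⊗ Q) ⊗ E σ).left}
    (h1 : a ≫ (fst (P ⊗ Q) (E σ) ≫ fst P Q).left = b ≫ (fst (P ⊗ Q) (E σ) ≫ fst P Q).left)
    (h2 : a ≫ (fst (P ⊗ Q) (E σ) ≫ snd P Q).left = b ≫ (fst (P ⊗ Q) (E σ) ≫ snd P Q).left)
    (h3 : a ≫ (snd (P ⊗ Q) (E σ)).left = b ≫ (snd (P ⊗ Q) (E σ)).left) : a = b := by
  refine pullback.hom_ext (pullback.hom_ext ?_ ?_) h3
  · rw [Category.assoc, Category.assoc]; exact h1
  · rw [Category.assoc, Category.assoc]; exact h2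

theorem ofFibre_toFibre : ofFibre σ P Q ≫ toFibre σ P Q = 𝟙 _ := by
  refine fibre_hom_ext σ P Q ?_ ?_ ?_
  · rw [Category.assoc, toFibre_one, ← Category.assoc, ofFibre_fst, ← Over.comp_left, whiskerRight_fst]
    exact (Category.id_comp _).symm
  · rw [Category.assoc, toFibre_two, ← Category.assoc, ofFibre_snd, ← Over.comp_left, whiskerRight_fst]
    exact (Category.id_comp _).symm
  · rw [Category.assoc, toFibre_three, ← Category.assoc, ofFibre_fst, ← Over.comp_left, whiskerRight_snd]
    exact (Category.id_comp _).symm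

variable [GrpObj P] [GrpObj Q]

theorem eta_fst : η[Red.bc σ Q].left ≫ (fst Q (E σ)).left = σ ≫ η[Q].left :=
  Groth.L25.SmoothUnit.eta_bc_fst σ Q

theorem toUnit_eta (Z : Over (Spec (CommRingCat.of k))) :
    (toUnit (Red.bc σ Z)).left ≫ σ ≫ η[Q].left = (fst Z (E σ) ≫ toUnit Z ≫ η[Q]).left := by
  show (pullback.snd Z.hom σ) ≫ σ ≫ η[Q].left = pullback.fst Z.hom σ ≫ Z.hom ≫ η[Q].left
  rw [pullback.condition_assoc]

theorem secFst_toFibre : (Groth.L19.PicRat.secFst (X := Red.bc σ P) η[Red.bc σ Q]).left ≫ toFibre σ P Q =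
    (lift (𝟙 P) (toUnit P ≫ η[Q]) ▷ E σ).left := by
  refine fibre_hom_ext σ P Q ?_ ?_ ?_
  · rw [Category.assoc, toFibre_one, ← Category.assoc, ← Over.comp_left, lift_fst, ← Over.comp_left,
      whiskerRight_fst_assoc, lift_fst, Category.comp_id]
    exact Category.id_comp _
  · rw [Category.assoc, toFibre_two, ← Category.assoc, ← Over.comp_left, lift_snd, ← Over.comp_left,
      whiskerRight_fst_assoc, lift_snd, Over.comp_left, Category.assoc, eta_fst]
    exact toUnit_eta σ Q P
  · rw [Category.assoc, toFibre_three, ← Category.assoc, ← Over.comp_left, lift_fst, ← Over.comp_left, whiskerRight_snd]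
    exact Category.id_comp _

theorem secSnd_toFibre : (Groth.L19.PicRat.secSnd (Y := Red.bc σ Q) η[Red.bc σ P]).left ≫ toFibre σ P Q =
    (lift (toUnit Q ≫ η[P]) (𝟙 Q) ▷ E σ).left := by
  refine fibre_hom_ext σ P Q ?_ ?_ ?_
  · rw [Category.assoc, toFibre_one, ← Category.assoc, ← Over.comp_left, lift_fst, ← Over.comp_left,
      whiskerRight_fst_assoc, lift_fst, Over.comp_left, Category.assoc, eta_fst]
    exact toUnit_eta σ P Q
  · rw [Category.assoc, toFibre_two, ← Category.assoc, ← Over.comp_left, lift_snd, ← Over.comp_left,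
      whiskerRight_fst_assoc, lift_snd, Category.comp_id]
    exact Category.id_comp _
  · rw [Category.assoc, toFibre_three, ← Category.assoc, ← Over.comp_left, lift_fst, ← Over.comp_left, whiskerRight_snd,
      Over.comp_left, Category.assoc]
    show _ ≫ η[Red.bc σ P].left ≫ pullback.snd P.hom σ = _
    rw [show η[Red.bc σ P].left ≫ pullback.snd P.hom σ = 𝟙 _ from Over.w η[Red.bc σ P]]
    exact Category.comp_id _

variable [Smooth P.hom] [Smooth Q.hom] [ConnectedSpace P.left] [ConnectedSpace Q.left]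

/-- A class on a geometric fibre of the product trivial on the axes is trivial. -/
theorem isTrivialCl_fibre [IsAffine P.left] [QuasiCompact Q.hom] (c : PicF.Cl ((P ⊗ Q) ⊗ E σ).left)
    (hc : PicF.IsInvertibleCl c) (hP : PicF.IsTrivialCl (PicF.pullCl (lift (𝟙 P) (toUnit P ≫ η[Q]) ▷ E σ).left c))
    (hQ : PicF.IsTrivialCl (PicF.pullCl (lift (toUnit Q ≫ η[P]) (𝟙 Q) ▷ E σ).left c)) : PicF.IsTrivialCl c := by
  haveI := Groth.L08.Borel.connectedSpace_bc' σ P
  haveI := Groth.L08.Borel.connectedSpace_bc' σ Q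
  haveI := Groth.L08.Borel.isAffine_bc σ P
  haveI := Groth.L08.Borel.smooth_bc σ P
  haveI := Groth.L08.Borel.smooth_bc σ Q
  haveI : QuasiCompact (Red.bc σ Q).hom := inferInstanceAs (QuasiCompact (pullback.snd Q.hom σ))
  have h : PicF.IsTrivialCl (PicF.pullCl (toFibre σ P Q) c) := by
    refine isTrivialCl_of_axes _ _ _ (PicLoc.isInvertibleCl_pullCl _ hc) ?_ ?_
    · rw [← PicLoc.pullCl_comp, secFst_toFibre]; exact hP
    · rw [← PicLoc.pullCl_comp, secSnd_toFibre]; exact hQ
  show c = _
  rw [← PicLoc.pullCl_id c, ← ofFibre_toFibre σ P Q, PicLoc.pullCl_comp, h]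
  exact Groth.L19.PicRat.pullCl_unit _

/-- A unit on a geometric fibre of the product equal to one on the axes is one. -/
theorem units_fibre (v : Γ(((P ⊗ Q) ⊗ E σ).left, ⊤)ˣ)
    (hP : (lift (𝟙 P) (toUnit P ≫ η[Q]) ▷ E σ).left.appTop v.1 = 1)
    (hQ : (lift (toUnit Q ≫ η[P]) (𝟙 Q) ▷ E σ).left.appTop v.1 = 1) : v = 1 := by
  haveI := Groth.L08.Borel.connectedSpace_bc' σ P
  haveI := Groth.L08.Borel.connectedSpace_bc' σ Q
  haveI := Groth.L08.Borel.smooth_bc σ P
  haveI := Groth.L08.Borel.smooth_bc σ Q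
  haveI := Groth.L25.ConnIrred.irreducibleSpace (Red.bc σ P)
  haveI := Groth.L25.ConnIrred.irreducibleSpace (Red.bc σ Q)
  haveI : IsReduced (Red.bc σ P).left := Groth.Agent.AV.isReduced_of_smooth_field (Red.bc σ P).hom
  haveI : IsReduced (Red.bc σ Q).left := Groth.Agent.AV.isReduced_of_smooth_field (Red.bc σ Q).hom
  haveI : IsIntegral (Red.bc σ P).left := isIntegral_of_irreducibleSpace_of_isReduced _
  haveI : IsIntegral (Red.bc σ Q).left := isIntegral_of_irreducibleSpace_of_isReduced _
  haveI := Groth.Agent.AV.isSeparated_of_grpObj (Red.bc σ P)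
  haveI := Groth.Agent.AV.isSeparated_of_grpObj (Red.bc σ Q)
  let u := Units.map (toFibre σ P Q).appTop.hom.toMonoidHom v
  have hu : u = 1 := by
    refine Groth.L19.PicRat.units_eq_one_of_axes η[Red.bc σ P] η[Red.bc σ Q] u ?_ ?_
    · show ((toFibre σ P Q).appTop ≫ (Groth.L19.PicRat.secSnd (Y := Red.bc σ Q) η[Red.bc σ P]).left.appTop) v.1 = 1
      rw [← Scheme.Hom.comp_appTop, secSnd_toFibre]
      exact hQ
    · show ((toFibre σ P Q).appTop ≫ (Groth.L19.PicRat.secFst (X := Red.bc σ P) η[Red.bc σ Q]).left.appTop) v.1 = 1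
      rw [← Scheme.Hom.comp_appTop, secFst_toFibre]
      exact hP
  refine Units.ext ?_
  have h1 : (ofFibre σ P Q).appTop u.1 = v.1 := by
    show ((toFibre σ P Q).appTop ≫ (ofFibre σ P Q).appTop) v.1 = v.1
    rw [← Scheme.Hom.comp_appTop, ofFibre_toFibre, Scheme.Hom.id_appTop]
    rfl
  rw [← h1, hu, Units.val_one, map_one]
  exact Units.val_one.symm

end Groth.L19.PicAxes
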