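import Groth.Agent.L19.QCohFpqc.Pull
import Groth.Agent.L02.RigidDesc.Rigid
import Groth.Agent.L08.Cube.Inverse

/-!
# Descent of global frames of invertible modules
-/

set_option autoImplicit false
set_option linter.style.haveILetI false
set_option linter.unusedSectionVars false
set_option backward.isDefEq.respectTransparency.types false
set_option backward.isDefEq.respectTransparency false

universe u

open CategoryTheory CategoryTheory.Limits AlgebraicGeometry TopologicalSpace Opposite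

noncomputable section

namespace Groth.L19.PicAxes

open Groth.L18.Frame (rs ro rs_rs rs_self rs_smul ro_self pull pull_rs pull_smul IsFrame)
open Groth.L27.Assoc (Mo θ R R_rs R_pull)
open Groth.L19.QCohFpqc

/-- Pullbacks of frames are frames. -/
theorem isFrame_rsx {Y T T' : Scheme.{u}} (M : Y.Modules) (g : T' ⟶ T) (a : T ⟶ Y) (a' : T' ⟶ Y) (w : g ≫ a = a')
    {s : Sx M a} (hs : IsFrame (Mo M a) ⊤ s) : IsFrame (Mo M a') ⊤ (rsx M g a a' w s) :=
  Groth.L02.RigidDesc.isFrame_app (θ M g a a' w) ((hs.pullback g).mono le_top)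

/-- Two frames differ by a unit. -/
theorem exists_ratio {Y T : Scheme.{u}} {M : Y.Modules} {a : T ⟶ Y} {s t : Sx M a}
    (hs : IsFrame (Mo M a) ⊤ s) (ht : IsFrame (Mo M a) ⊤ t) : ∃ c : Γ(T, ⊤)ˣ, (c : Γ(T, ⊤)) • t = s := by
  obtain ⟨c, hc⟩ := ht.exists_coeff le_rfl s
  rw [rs_self] at hc
  exact ⟨(Groth.L18.Frame.isUnit_of_isFrame ht (hc ▸ hs)).unit, hc⟩

/-- A coefficient of a frame is unique. -/
theorem ratio_inj {Y T : Scheme.{u}} {M : Y.Modules} {a : T ⟶ Y} {t : Sx M a}
    (ht : IsFrame (Mo M a) ⊤ t) {c c' : Γ(T, ⊤)} (h : c • t = c' • t) : c = c' := by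
  refine ht.inj le_rfl ?_
  rwa [rs_self]

variable {X X' : Scheme.{u}} (g : X' ⟶ X) [Flat g] [Surjective g] [QuasiCompact g] (L : X.Modules) [Coh.IsQCoh L]

/-- A global section of the pullback with equal restrictions to the kernel pair descends. -/
theorem exists_section_of_agree (s : Sx L g)
    (hs : ∀ (T : Scheme.{u}) [IsAffine T] (a b : T ⟶ X') (q : T ⟶ X) (ha : a ≫ g = q) (hb : b ≫ g = q),
      rsx L a g q ha s = rsx L b g q hb s) :
    ∃ n : Γ(L, ⊤), pull g L ⊤ n = s := by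
  have hf : Presieve.ofArrows (fun _ : PUnit.{u + 1} => X') (fun _ => g) ∈ Scheme.fpqcPrecoverage X := by
    rw [Presieve.ofArrows_pUnit]
    exact Scheme.Hom.singleton_mem_fpqcPrecoverage g
  have hex : ∀ V : X.affineOpens, ∃! n : Γ(L, V.1), ∀ _ : PUnit.{u + 1},
      pull g L V.1 n = rs (Mo L g) (g.preimage_mono (le_top : V.1 ≤ ⊤)) s := fun V =>
    existsUnique_pull hf L V.2 _ fun T _ i j a b q ha hb e e' => by
      have key : ∀ (c : T ⟶ X') (hc : c ≫ g = q) (ec : ⊤ ≤ c ⁻¹ᵁ (g ⁻¹ᵁ V.1)),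
          R L c g q hc (V' := ⊤) ec (rs (Mo L g) (g.preimage_mono (le_top : V.1 ≤ ⊤)) s) =
            rsx L c g q hc s := by
        intro c hc ec
        show (θ L c g q hc).app ⊤ _ = (θ L c g q hc).app ⊤ _
        congr 1
        rw [← pull_rs c (Mo L g), rs_rs]
        rfl
      rw [key a ha e, key b hb e']
      exact hs T a b q ha hb
  choose n hn hu using hex
  have hcompat : TopCat.Presheaf.IsCompatible L.presheaf (fun V : X.affineOpens => V.1) n := by
    intro V V'
    refine eq_of_affine L fun W hW hle => ?_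
    refine (congrArg (rs L hle) rfl).trans ?_
    have e1 : rs L (hle.trans inf_le_left) (n V) = n ⟨W, hW⟩ := hu ⟨W, hW⟩ _ fun i => by
      rw [← pull_rs g L, hn V i, rs_rs]
    have e2 : rs L (hle.trans inf_le_right) (n V') = n ⟨W, hW⟩ := hu ⟨W, hW⟩ _ fun i => by
      rw [← pull_rs g L, hn V' i, rs_rs]
    exact (rs_rs L _ hle (n V)).trans (e1.trans (e2.symm.trans (rs_rs L _ hle (n V')).symm))
  obtain ⟨m, hm, -⟩ := TopCat.Sheaf.existsUnique_gluing' ⟨L.presheaf, L.isSheaf⟩ (fun V : X.affineOpens => V.1) ⊤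
    (fun V => homOfLE le_top) (by rw [AlgebraicGeometry.iSup_affineOpens_eq_top]) n hcompat
  refine ⟨m, eq_of_locally (Mo L g) fun x => ?_⟩
  obtain ⟨_, ⟨V, hV, rfl⟩, hxV, -⟩ :=
    X.isBasis_affineOpens.exists_subset_of_mem_open (Set.mem_univ (g x.1)) isOpen_univ
  refine ⟨g ⁻¹ᵁ V, hxV, g.preimage_mono le_top, ?_⟩
  rw [pull_rs g L (le_top : V ≤ ⊤), show rs L (le_top : V ≤ ⊤) m = n ⟨V, hV⟩ from hm ⟨V, hV⟩]
  exact hn ⟨V, hV⟩ PUnit.unit

omit [Coh.IsQCoh L] in
/-- An invertible module with a section pulling back to a frame is trivial. -/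
theorem nonempty_iso_of_pull_frame (hL : PicF.IsInvertible L) (n : Γ(L, ⊤))
    (hn : IsFrame (Mo L g) ⊤ (pull g L ⊤ n)) : Nonempty (L ≅ Coh.structureModule X) := by
  refine Groth.L08.Cube.nonempty_iso_of_frame_top (σ := n) ?_
  choose W e hW he using fun x : X => Groth.L18.Frame.exists_frame hL x
  refine IsFrame.of_cover W (fun _ => le_top) (fun x _ => Opens.mem_iSup.2 ⟨x, hW x⟩) fun x => ?_
  obtain ⟨c, hc⟩ := (he x).exists_coeff le_rfl (rs L le_top n)
  rw [rs_self] at hc
  rw [← hc]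
  refine (he x).smul_unit ?_
  have hu : IsUnit (g.app (W x) c) := by
    refine Groth.L18.Frame.isUnit_of_isFrame ((he x).pullback g) ?_
    rw [← pull_smul, hc, ← pull_rs g L]
    exact hn.mono _
  have hb : X.basicOpen c = W x := by
    refine le_antisymm (X.basicOpen_le c) fun y hy => ?_
    obtain ⟨y', hy'⟩ := g.surjective y
    have h1 : y' ∈ X'.basicOpen (g.app (W x) c) := by
      rw [X'.basicOpen_of_isUnit hu]
      show g y' ∈ W x
      rw [hy']; exact hy
    rw [← Scheme.preimage_basicOpen] at h1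
    exact hy' ▸ h1
  exact X.toRingedSpace.isUnit_of_isUnit_germ (W x) c fun y hy => (X.mem_basicOpen c y hy).1 (hb.ge hy)

end Groth.L19.PicAxes
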