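import Groth.Agent.L19.PicAxes.GlobalDesc
import Groth.Agent.L19.PicAxes.Fibre
import Groth.Agent.L08.Cube.NP.Glue
import Groth.Agent.L25.GeomRed

/-!
# Invertible modules on a product with a linear group over a perfect field, trivial on the axes
-/

set_option autoImplicit false
set_option linter.style.haveILetI false
set_option linter.unusedSectionVars false
set_option backward.isDefEq.respectTransparency.types false
set_option maxSynthPendingDepth 3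

universe u

open CategoryTheory CategoryTheory.Limits MonoidalCategory CartesianMonoidalCategory MonObj AlgebraicGeometry

noncomputable section

namespace Groth.L19.PicAxes

open Groth.L19.QCohFpqc (Sx rsx rsx_rsx rsx_congr rsx_smul)
open Groth.L18.Frame (IsFrame)
open Groth.L27.Assoc (Mo)

variable {k : Type u} [Field k]

/-- Pullback of units. -/
def gu {T T' : Over (Spec (CommRingCat.of k))} (h : T ⟶ T') : Γ(T'.left, ⊤)ˣ →* Γ(T.left, ⊤)ˣ :=
  Units.map h.left.appTop.hom.toMonoidHom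

theorem gu_gu {T T' T'' : Over (Spec (CommRingCat.of k))} (h : T ⟶ T') (h' : T' ⟶ T'') (c : Γ(T''.left, ⊤)ˣ) :
    gu h (gu h' c) = gu (h ≫ h') c :=
  Units.ext (show h.left.appTop (h'.left.appTop c.1) = (h.left ≫ h'.left).appTop c.1 by
    rw [Scheme.Hom.comp_appTop]; rfl)

theorem gu_id {T : Over (Spec (CommRingCat.of k))} (c : Γ(T.left, ⊤)ˣ) : gu (𝟙 T) c = c :=
  Units.ext (show (𝟙 T.left : T.left ⟶ T.left).appTop c.1 = c.1 by rw [Scheme.Hom.id_appTop]; rfl)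

variable {X : Over (Spec (CommRingCat.of k))} {L : X.left.Modules}

/-- Pullback of sections. -/
def res {T T' : Over (Spec (CommRingCat.of k))} (f : T ⟶ X) (h : T' ⟶ T) (f' : T' ⟶ X) (w : h ≫ f = f') :
    Sx L f.left →+ Sx L f'.left :=
  rsx L h.left f.left f'.left (congrArg CommaMorphism.left w)

theorem res_res {T T' T'' : Over (Spec (CommRingCat.of k))} (f : T ⟶ X) (h : T' ⟶ T) (f' : T' ⟶ X) (w : h ≫ f = f')
    (h' : T'' ⟶ T') (f'' : T'' ⟶ X) (w' : h' ≫ f' = f'') (h'' : T'' ⟶ T) (e : h' ≫ h = h'') (w'' : h'' ≫ f = f'')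
    (s : Sx L f.left) : res f' h' f'' w' (res f h f' w s) = res f h'' f'' w'' s := by
  subst e
  exact rsx_rsx L _ _ _ _ _ (congrArg CommaMorphism.left w) (congrArg CommaMorphism.left w')
    (congrArg CommaMorphism.left w'') s

theorem res_smul {T T' : Over (Spec (CommRingCat.of k))} (f : T ⟶ X) (h : T' ⟶ T) (f' : T' ⟶ X) (w : h ≫ f = f')
    (c : Γ(T.left, ⊤)ˣ) (s : Sx L f.left) :
    res f h f' w (c.1 • s) = (gu h c).1 • res f h f' w s :=
  rsx_smul L _ _ _ (congrArg CommaMorphism.left w) c.1 s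

theorem isFrame_res {T T' : Over (Spec (CommRingCat.of k))} (f : T ⟶ X) (h : T' ⟶ T) (f' : T' ⟶ X) (w : h ≫ f = f')
    {s : Sx L f.left} (hs : IsFrame (Mo L f.left) ⊤ s) : IsFrame (Mo L f'.left) ⊤ (res f h f' w s) :=
  isFrame_rsx L h.left f.left f'.left (congrArg CommaMorphism.left w) hs

section Points

/-- A function on a reduced scheme vanishing at all geometric points is zero. -/
theorem eq_zero_of_points {R : Scheme.{u}} [IsReduced R] (f : Γ(R, ⊤))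
    (h : ∀ r : R, (Spec.map (CommRingCat.ofHom (algebraMap (R.residueField r) (AlgebraicClosure (R.residueField r)))) ≫
      R.fromSpecResidueField r).appTop f = 0) : f = 0 := by
  rw [← basicOpen_eq_bot_iff]
  by_contra hne
  obtain ⟨r, hr⟩ := (TopologicalSpace.Opens.ne_bot_iff_nonempty _).1 hne
  let ρ : Spec (CommRingCat.of (AlgebraicClosure (R.residueField r))) ⟶ R :=
    Spec.map (CommRingCat.ofHom (algebraMap (R.residueField r) (AlgebraicClosure (R.residueField r)))) ≫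
      R.fromSpecResidueField r
  have h1 : IsLocalRing.closedPoint (AlgebraicClosure (R.residueField r)) ∈ ρ ⁻¹ᵁ R.basicOpen f := by
    show ρ _ ∈ R.basicOpen f
    rw [Scheme.Hom.comp_apply, Scheme.fromSpecResidueField_apply]
    exact hr
  rw [Scheme.preimage_basicOpen, show ρ.app ⊤ f = 0 from h r] at h1
  rw [Scheme.basicOpen_zero] at h1
  exact h1

end Points

section Main

variable [PerfectField k] {P Q : Over (Spec (CommRingCat.of k))} [GrpObj P] [GrpObj Q] [IsAffine P.left]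
  [Smooth P.hom] [Smooth Q.hom] [QuasiCompact Q.hom] [ConnectedSpace P.left] [ConnectedSpace Q.left]
  {L : (P ⊗ Q).left.Modules}

set_option maxHeartbeats 1600000 in
/-- An invertible module on a product with a linear group over a perfect field, trivial on the axes, is trivial. -/
theorem isTrivialCl_of_trivial_axes (hL : PicF.IsInvertible L)
    (hP : PicF.IsTrivialCl (PicF.pullCl (lift (𝟙 P) (toUnit P ≫ η[Q])).left (PicF.cl L)))
    (hQ : PicF.IsTrivialCl (PicF.pullCl (lift (toUnit Q ≫ η[P]) (𝟙 Q)).left (PicF.cl L))) :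
    PicF.IsTrivialCl (PicF.cl L) := by
  let K := AlgebraicClosure k
  let σ : Spec (CommRingCat.of K) ⟶ Spec (CommRingCat.of k) := Spec.map (CommRingCat.ofHom (algebraMap k K))
  let sP : P ⟶ P ⊗ Q := lift (𝟙 P) (toUnit P ≫ η[Q])
  let sQ : Q ⟶ P ⊗ Q := lift (toUnit Q ≫ η[P]) (𝟙 Q)
  let EK := E σ
  let f₀ : (P ⊗ Q) ⊗ EK ⟶ P ⊗ Q := fst (P ⊗ Q) EK
  let g := f₀.left
  haveI : Surjective σ := ⟨fun x => ⟨IsLocalRing.closedPoint K, Subsingleton.elim (α := PrimeSpectrum k) _ _⟩⟩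
  haveI : Flat σ := inferInstance
  haveI : QuasiCompact σ := inferInstance
  haveI : Flat g := inferInstanceAs (Flat (pullback.fst (P ⊗ Q).hom σ))
  haveI : Surjective g := inferInstanceAs (Surjective (pullback.fst (P ⊗ Q).hom σ))
  haveI : QuasiCompact g := inferInstanceAs (QuasiCompact (pullback.fst (P ⊗ Q).hom σ))
  haveI : Coh.IsQCoh L := Groth.L21.Extend.isQCoh_of_isInvertible hL
  obtain ⟨tP, htP⟩ := Groth.L08.Cube.NP.exists_frame_of_iso ((PicGrp.cl_eq_cl_iff _ _).1 hP)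
  obtain ⟨tQ, htQ⟩ := Groth.L08.Cube.NP.exists_frame_of_iso ((PicGrp.cl_eq_cl_iff _ _).1 hQ)
  -- a trivialisation over the algebraic closure
  let iP : P ⊗ EK ⟶ (P ⊗ Q) ⊗ EK := sP ▷ EK
  let iQ : Q ⊗ EK ⟶ (P ⊗ Q) ⊗ EK := sQ ▷ EK
  have hiP : iP ≫ f₀ = fst P EK ≫ sP := whiskerRight_fst _ _
  have hiQ : iQ ≫ f₀ = fst Q EK ≫ sQ := whiskerRight_fst _ _
  have htriv : PicF.IsTrivialCl (PicF.pullCl g (PicF.cl L)) := by
    refine isTrivialCl_fibre σ P Q _ (PicLoc.isInvertibleCl_pullCl _ ⟨L, rfl, hL⟩) ?_ ?_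
    · rw [← PicLoc.pullCl_comp, show iP.left ≫ g = (fst P EK).left ≫ sP.left from congrArg CommaMorphism.left hiP,
        PicLoc.pullCl_comp, hP]
      exact Groth.L19.PicRat.pullCl_unit _
    · rw [← PicLoc.pullCl_comp, show iQ.left ≫ g = (fst Q EK).left ≫ sQ.left from congrArg CommaMorphism.left hiQ,
        PicLoc.pullCl_comp, hQ]
      exact Groth.L19.PicRat.pullCl_unit _
  obtain ⟨s, hs⟩ : ∃ s : Sx L g, IsFrame (Mo L g) ⊤ s :=
    Groth.L08.Cube.NP.exists_frame_of_iso ((PicGrp.cl_eq_cl_iff _ _).1 htriv)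
  -- normalisation
  let tP' := res sP (fst P EK) (fst P EK ≫ sP) rfl tP
  let tQ' := res sQ (fst Q EK) (fst Q EK ≫ sQ) rfl tQ
  obtain ⟨cP, hcP⟩ := exists_ratio (isFrame_res f₀ iP _ hiP hs) (isFrame_res sP (fst P EK) _ rfl htP)
  obtain ⟨cQ, hcQ⟩ := exists_ratio (isFrame_res f₀ iQ _ hiQ hs) (isFrame_res sQ (fst Q EK) _ rfl htQ)
  let ePK : EK ⟶ P ⊗ EK := lift (toUnit EK ≫ η[P]) (𝟙 EK)
  let eQK : EK ⟶ Q ⊗ EK := lift (toUnit EK ≫ η[Q]) (𝟙 EK)
  let w : Γ(((P ⊗ Q) ⊗ EK).left, ⊤)ˣ :=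
    gu (fst P Q ▷ EK) cP * gu (snd P Q ▷ EK) cQ * (gu (snd (P ⊗ Q) EK) (gu ePK cP))⁻¹
  let m₀ : Γ(EK.left, ⊤)ˣ := (gu eQK cQ * (gu ePK cP)⁻¹)⁻¹
  let s₁ : Sx L g := (w⁻¹ : Γ(((P ⊗ Q) ⊗ EK).left, ⊤)ˣ).1 • s
  have hs₁ : IsFrame (Mo L g) ⊤ s₁ := hs.smul_unit (Units.isUnit _)
  have hwP : gu iP w = cP * gu (snd P EK) m₀⁻¹ := by
    simp only [w, m₀, map_mul, map_inv, gu_gu, inv_inv]
    rw [show iP ≫ fst P Q ▷ EK = 𝟙 _ by rw [← comp_whiskerRight, lift_fst, id_whiskerRight],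
      show iP ≫ snd P Q ▷ EK = snd P EK ≫ eQK by ext1 <;> simp [iP, sP, eQK],
      show iP ≫ snd (P ⊗ Q) EK ≫ ePK = snd P EK ≫ ePK by rw [whiskerRight_snd_assoc], gu_id, _root_.mul_assoc]
  have hwQ : gu iQ w = cQ := by
    simp only [w, map_mul, map_inv, gu_gu]
    rw [show iQ ≫ fst P Q ▷ EK = snd Q EK ≫ ePK by ext1 <;> simp [iQ, sQ, ePK],
      show iQ ≫ snd P Q ▷ EK = 𝟙 _ by rw [← comp_whiskerRight, lift_snd, id_whiskerRight],
      show iQ ≫ snd (P ⊗ Q) EK ≫ ePK = snd Q EK ≫ ePK by rw [whiskerRight_snd_assoc], gu_id]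
    exact mul_inv_cancel_comm _ _
  have hsP : res f₀ iP _ hiP s₁ = (gu (snd P EK) m₀).1 • tP' := by
    rw [res_smul, map_inv, hwP, mul_inv_rev, map_inv, inv_inv, ← hcP, smul_smul]
    congr 1
    rw [← Units.val_mul, inv_mul_cancel_right]
  have hsQ : res f₀ iQ _ hiQ s₁ = tQ' := by
    rw [res_smul, map_inv, hwQ, ← hcQ, smul_smul, Units.inv_mul, one_smul]
  -- values on the axes
  have hptQ : ∀ {T : Over (Spec (CommRingCat.of k))} (z : T ⟶ (P ⊗ Q) ⊗ EK) (y : T ⟶ Q) (f : T ⟶ P ⊗ Q)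
      (hz : z ≫ f₀ = f) (hy : y ≫ sQ = f), res f₀ z f hz s₁ = res sQ y f hy tQ := by
    intro T z y f hz hy
    let l : T ⟶ Q ⊗ EK := lift y (z ≫ snd (P ⊗ Q) EK)
    have hl : l ≫ iQ = z := by
      apply CartesianMonoidalCategory.hom_ext
      · rw [Category.assoc, hiQ, lift_fst_assoc, hy, hz]
      · rw [Category.assoc, whiskerRight_snd, lift_snd]
    have hl' : l ≫ fst Q EK ≫ sQ = f := by rw [lift_fst_assoc, hy]
    rw [← res_res f₀ iQ _ hiQ l f hl' z hl hz, hsQ]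
    exact res_res sQ (fst Q EK) _ rfl l f hl' y (lift_fst _ _) hy tQ
  have hptP : ∀ {T : Over (Spec (CommRingCat.of k))} (z : T ⟶ (P ⊗ Q) ⊗ EK) (y : T ⟶ P) (f : T ⟶ P ⊗ Q)
      (hz : z ≫ f₀ = f) (hy : y ≫ sP = f),
      res f₀ z f hz s₁ = (gu (z ≫ snd (P ⊗ Q) EK) m₀).1 • res sP y f hy tP := by
    intro T z y f hz hy
    let l : T ⟶ P ⊗ EK := lift y (z ≫ snd (P ⊗ Q) EK)
    have hl : l ≫ iP = z := by
      apply CartesianMonoidalCategory.hom_ext
      · rw [Category.assoc, hiP, lift_fst_assoc, hy, hz]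
      · rw [Category.assoc, whiskerRight_snd, lift_snd]
    have hl' : l ≫ fst P EK ≫ sP = f := by rw [lift_fst_assoc, hy]
    rw [← res_res f₀ iP _ hiP l f hl' z hl hz, hsP, res_smul, gu_gu, lift_snd]
    exact congrArg _ (res_res sP (fst P EK) _ rfl l f hl' y (lift_fst _ _) hy tP)
  -- the kernel pair
  have hgw : g ≫ (P ⊗ Q).hom = ((P ⊗ Q) ⊗ EK).hom := Over.w f₀
  let Rk : Over (Spec (CommRingCat.of k)) := Over.mk (pullback.fst g g ≫ ((P ⊗ Q) ⊗ EK).hom)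
  let A₀ : Rk ⟶ (P ⊗ Q) ⊗ EK := Over.homMk (pullback.fst g g) rfl
  let B₀ : Rk ⟶ (P ⊗ Q) ⊗ EK := Over.homMk (pullback.snd g g) (by
    show _ = pullback.fst g g ≫ _
    rw [← hgw, pullback.condition_assoc])
  have hAB : B₀ ≫ f₀ = A₀ ≫ f₀ := Over.OverMorphism.ext pullback.condition.symm
  obtain ⟨v, hv⟩ := exists_ratio (isFrame_res f₀ B₀ _ hAB hs₁) (isFrame_res f₀ A₀ _ rfl hs₁)
  have hv1 : v = 1 := by
    haveI : IsReduced (P ⊗ Q).left := by
      haveI : IsReduced P.left := Groth.Agent.AV.isReduced_of_smooth_field P.hom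
      haveI : IsReduced Q.left := Groth.Agent.AV.isReduced_of_smooth_field Q.hom
      exact Groth.L25.GeomRed.isReduced_pullback P.hom Q.hom
    haveI : IsReduced ((P ⊗ Q) ⊗ EK).left := Groth.L25.GeomRed.isReduced_pullback (P ⊗ Q).hom σ
    haveI : IsReduced (pullback (g ≫ (P ⊗ Q).hom) σ) := Groth.L25.GeomRed.isReduced_pullback _ σ
    haveI : IsReduced (pullback g g) :=
      isReduced_of_isOpenImmersion (pullbackRightPullbackFstIso (P ⊗ Q).hom σ g).hom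
    refine Units.ext (sub_eq_zero.1 (eq_zero_of_points (R := pullback g g) _ fun r => ?_))
    let Ω := AlgebraicClosure ((pullback g g).residueField r)
    let ρ : Spec (CommRingCat.of Ω) ⟶ pullback g g :=
      Spec.map (CommRingCat.ofHom (algebraMap ((pullback g g).residueField r) Ω)) ≫
        (pullback g g).fromSpecResidueField r
    show ρ.appTop _ = 0
    let EΩ : Over (Spec (CommRingCat.of k)) := E (K := Ω) (ρ ≫ Rk.hom)
    let ρ' : EΩ ⟶ Rk := Over.homMk ρ rfl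
    let a : EΩ ⟶ EK := ρ' ≫ A₀ ≫ snd (P ⊗ Q) EK
    let b : EΩ ⟶ EK := ρ' ≫ B₀ ≫ snd (P ⊗ Q) EK
    let A : (P ⊗ Q) ⊗ EΩ ⟶ (P ⊗ Q) ⊗ EK := (P ⊗ Q) ◁ a
    let B : (P ⊗ Q) ⊗ EΩ ⟶ (P ⊗ Q) ⊗ EK := (P ⊗ Q) ◁ b
    let fΩ := fst (P ⊗ Q) EΩ
    have hA : A ≫ f₀ = fΩ := whiskerLeft_fst _ _
    have hB : B ≫ f₀ = fΩ := whiskerLeft_fst _ _
    let Ψ : (P ⊗ Q) ⊗ EΩ ⟶ Rk := Over.homMk
      (pullback.lift A.left B.left (congrArg CommaMorphism.left (hA.trans hB.symm))) (by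
        show pullback.lift _ _ _ ≫ pullback.fst g g ≫ _ = _
        rw [pullback.lift_fst_assoc]
        exact Over.w A)
    have hΨA : Ψ ≫ A₀ = A := Over.OverMorphism.ext (pullback.lift_fst _ _ _)
    have hΨB : Ψ ≫ B₀ = B := Over.OverMorphism.ext (pullback.lift_snd _ _ _)
    have hΨf : Ψ ≫ A₀ ≫ f₀ = fΩ := by rw [reassoc_of% hΨA, hA]
    let v' := gu Ψ v
    have hv' : v'.1 • res f₀ A fΩ hA s₁ = res f₀ B fΩ hB s₁ := by
      have h := congrArg (res (A₀ ≫ f₀) Ψ fΩ hΨf) hv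
      rwa [res_smul, res_res f₀ A₀ _ rfl Ψ fΩ hΨf A hΨA hA, res_res f₀ B₀ _ hAB Ψ fΩ hΨf B hΨB hB] at h
    have hQ' : gu (sQ ▷ EΩ) v' = 1 := by
      have hf : (sQ ▷ EΩ) ≫ fΩ = fst Q EΩ ≫ sQ := whiskerRight_fst _ _
      have hzA : ((sQ ▷ EΩ) ≫ A) ≫ f₀ = fst Q EΩ ≫ sQ := by rw [Category.assoc, hA, hf]
      have hzB : ((sQ ▷ EΩ) ≫ B) ≫ f₀ = fst Q EΩ ≫ sQ := by rw [Category.assoc, hB, hf]
      have h := congrArg (res fΩ (sQ ▷ EΩ) _ hf) hv'
      rw [res_smul, res_res f₀ A fΩ hA (sQ ▷ EΩ) _ hf _ rfl hzA, res_res f₀ B fΩ hB (sQ ▷ EΩ) _ hf _ rfl hzB,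
        hptQ _ (fst Q EΩ) _ hzA rfl, hptQ _ (fst Q EΩ) _ hzB rfl] at h
      refine Units.ext (ratio_inj (isFrame_res sQ (fst Q EΩ) _ rfl htQ) ?_)
      rw [h, Units.val_one, one_smul]
    have hP' : gu (sP ▷ EΩ) v' = 1 := by
      have hf : (sP ▷ EΩ) ≫ fΩ = fst P EΩ ≫ sP := whiskerRight_fst _ _
      have hzA : ((sP ▷ EΩ) ≫ A) ≫ f₀ = fst P EΩ ≫ sP := by rw [Category.assoc, hA, hf]
      have hzB : ((sP ▷ EΩ) ≫ B) ≫ f₀ = fst P EΩ ≫ sP := by rw [Category.assoc, hB, hf]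
      have h := congrArg (res fΩ (sP ▷ EΩ) _ hf) hv'
      rw [res_smul, res_res f₀ A fΩ hA (sP ▷ EΩ) _ hf _ rfl hzA, res_res f₀ B fΩ hB (sP ▷ EΩ) _ hf _ rfl hzB,
        hptP _ (fst P EΩ) _ hzA rfl, hptP _ (fst P EΩ) _ hzB rfl, smul_smul] at h
      have hza : ((sP ▷ EΩ) ≫ A) ≫ snd (P ⊗ Q) EK = snd P EΩ ≫ a := by
        rw [Category.assoc, whiskerLeft_snd, whiskerRight_snd_assoc]
      have hzb : ((sP ▷ EΩ) ≫ B) ≫ snd (P ⊗ Q) EK = snd P EΩ ≫ b := by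
        rw [Category.assoc, whiskerLeft_snd, whiskerRight_snd_assoc]
      have h2 : gu (sP ▷ EΩ) v' * gu (snd P EΩ ≫ a) m₀ = gu (snd P EΩ ≫ b) m₀ := by
        rw [← hza, ← hzb]
        exact Units.ext (ratio_inj (isFrame_res sP (fst P EΩ) _ rfl htP) h)
      rw [← eq_mul_inv_iff_mul_eq, ← gu_gu (snd P EΩ) b, ← gu_gu (snd P EΩ) a, ← map_inv, ← map_mul] at h2
      let eP : EΩ ⟶ P ⊗ EΩ := lift (toUnit EΩ ≫ η[P]) (𝟙 EΩ)
      let eQ : EΩ ⟶ Q ⊗ EΩ := lift (toUnit EΩ ≫ η[Q]) (𝟙 EΩ)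
      have he : eP ≫ (sP ▷ EΩ) = eQ ≫ (sQ ▷ EΩ) := by ext1 <;> simp [eP, eQ, sP, sQ]
      have h3 := congrArg (gu eP) h2
      rw [gu_gu, he, ← gu_gu, hQ', map_one, gu_gu, lift_snd, gu_id] at h3
      rw [h2, ← h3, map_one]
    have hone : v' = 1 := units_fibre (K := Ω) (ρ ≫ Rk.hom) P Q v' (congrArg Units.val hP') (congrArg Units.val hQ')
    let z : EΩ ⟶ (P ⊗ Q) ⊗ EΩ := lift (ρ' ≫ A₀ ≫ f₀) (𝟙 EΩ)
    have hz : z ≫ Ψ = ρ' := by
      refine Over.OverMorphism.ext (pullback.hom_ext ?_ ?_)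
      · refine congrArg CommaMorphism.left (show (z ≫ Ψ) ≫ A₀ = ρ' ≫ A₀ from ?_)
        rw [Category.assoc, hΨA]
        apply CartesianMonoidalCategory.hom_ext
        · rw [Category.assoc, hA, lift_fst, Category.assoc]
        · rw [Category.assoc, whiskerLeft_snd, lift_snd_assoc, Category.id_comp, Category.assoc]
      · refine congrArg CommaMorphism.left (show (z ≫ Ψ) ≫ B₀ = ρ' ≫ B₀ from ?_)
        rw [Category.assoc, hΨB]
        apply CartesianMonoidalCategory.hom_ext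
        · rw [Category.assoc, hB, lift_fst, Category.assoc, hAB]
        · rw [Category.assoc, whiskerLeft_snd, lift_snd_assoc, Category.id_comp, Category.assoc]
    have h4 : gu ρ' v = 1 := by rw [← hz, ← gu_gu, show gu Ψ v = 1 from hone, map_one]
    rw [map_sub, sub_eq_zero]
    have h5 : ρ.appTop v.1 = 1 := congrArg Units.val h4
    rw [h5]
    exact (map_one ρ.appTop.hom).symm
  rw [hv1, Units.val_one, one_smul] at hv
  obtain ⟨n, hn⟩ := exists_section_of_agree g L s₁ fun T _ a b q ha hb => by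
    have hl : pullback.lift a b (ha.trans hb.symm) ≫ pullback.fst g g ≫ g = q := by
      rw [pullback.lift_fst_assoc, ha]
    have h := congrArg (rsx L (pullback.lift a b (ha.trans hb.symm)) (pullback.fst g g ≫ g) q hl) hv
    have e1 : ((pullback.lift a b (ha.trans hb.symm)) ≫ pullback.fst g g) ≫ g = q := (Category.assoc _ _ _).trans hl
    have e2 : ((pullback.lift a b (ha.trans hb.symm)) ≫ pullback.snd g g) ≫ g = q := by
      rw [pullback.lift_snd, hb]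
    refine (rsx_congr L (pullback.lift_fst _ _ _).symm g q ha e1 s₁).trans ?_
    refine (rsx_rsx L _ _ g (pullback.fst g g ≫ g) q rfl hl e1 s₁).symm.trans ?_
    refine h.trans ?_
    refine (rsx_rsx L _ _ g (pullback.fst g g ≫ g) q pullback.condition.symm hl e2 s₁).trans ?_
    exact rsx_congr L (pullback.lift_snd _ _ _) g q _ hb s₁
  exact (PicGrp.cl_eq_cl_iff _ _).2 (nonempty_iso_of_pull_frame g L hL n (hn ▸ hs₁))

end Main

end Groth.L19.PicAxes
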